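import Cfsg.Agent.BlocksB.LocalSymm.Linked
import Cfsg.Agent.BlocksB.Cyclic.LinAlg
import Cfsg.Agent.BlocksB.Cyclic.Values
import Cfsg.Agent.BlocksB.RankOne

/-!
# The corner of a block of rank one: dimensions
-/

set_option autoImplicit false
set_option linter.unusedSectionVars false
set_option linter.style.haveILetI false

namespace CfsgLib.LocalSymm

open Cfsg Finset CfsgLib.Block CfsgLib.Block.Chr CfsgLib.BrauerPairs CfsgLib.BlockStar CfsgLib.Cyclic
  MonoidAlgebra CfsgLib.BlockB
open scoped ComplexConjugate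
open scoped Classical

universe u

variable {M : Ideal AlgInt} [M.IsPrime] {p : ℕ} [Fact p.Prime] [CharP (Residue M) p]
  {G : Type u} [Group G] [Fintype G] {B : Set (IrrCharacter G)}

local notation "𝕜" => Residue M
local notation "KG" => MonoidAlgebra (Residue M) G

/-- The centre of the corner is at most as large as the block. -/
theorem finrank_center_corner_le (hM : IsPModular p M) (hB : IsPBlock M B) {i : KG}
    (hi : IsIdempotentElem i) {n : ℕ} {j x y : Fin n → KG}
    (hsum : ∑ l, j l = idem M B)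
    (hxy : ∀ l, x l * y l = j l ∧ y l * x l = i ∧ j l * x l = x l ∧ x l * i = x l ∧
        i * y l = y l ∧ y l * j l = y l)
    (hb : ∀ l, idem M B * j l = j l) :
    Module.finrank 𝕜 (Subalgebra.center 𝕜 hi.Corner) ≤ Nat.card B := by
  letI := irrFintype (G := G)
  haveI : Fintype B := Fintype.ofFinite B
  set b := idem M B
  have hbc : ∀ a : KG, b * a = a * b := idem_central hM hB
  let F : hi.Corner → KG := fun c => ∑ l, x l * c.1 * y l
  have hbx : ∀ l, b * x l = x l := fun l => by rw [← (hxy l).2.2.1, ← mul_assoc, hb]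
  have hcen : ∀ c : Subalgebra.center 𝕜 hi.Corner, ∀ a : KG, a * F c.1 = F c.1 * a := by
    intro c a
    have hcc : ∀ r : KG, i * r = r ∧ r * i = r → r * c.1.1 = c.1.1 * r := fun r hr =>
      congrArg Subtype.val (Subalgebra.mem_center_iff.1 c.2 (⟨r, mem_corner hi hr⟩ : hi.Corner))
    have hax : ∀ l, a * x l = ∑ m, x m * (y m * a * x l) := fun l => by
      calc a * x l = b * (a * x l) := by rw [← mul_assoc, hbc, mul_assoc, hbx]
        _ = ∑ m, x m * (y m * a * x l) := by
          rw [← hsum, sum_mul]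
          exact sum_congr rfl fun m _ => by rw [← (hxy m).1]; simp only [mul_assoc]
    have hay : ∀ m, y m * a = ∑ l, y m * a * x l * y l := fun m => by
      calc y m * a = y m * a * b := by
            rw [mul_assoc, ← hbc, ← mul_assoc]
            congr 1
            rw [← (hxy m).2.2.2.2.2, mul_assoc, ← hbc, hb]
        _ = _ := by
          rw [← hsum, mul_sum]
          exact sum_congr rfl fun l _ => by rw [← (hxy l).1, ← mul_assoc]
    calc a * F c.1 = ∑ l, ∑ m, x m * (y m * a * x l) * c.1.1 * y l := by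
          simp only [F, mul_sum, ← mul_assoc]
          exact sum_congr rfl fun l _ => by rw [hax, sum_mul, sum_mul]; simp only [← mul_assoc]
      _ = ∑ m, x m * c.1.1 * (y m * a) := by
          rw [sum_comm]
          refine sum_congr rfl fun m _ => ?_
          conv_rhs => rw [hay m, mul_sum]
          refine sum_congr rfl fun l _ => ?_
          rw [mul_assoc (x m), hcc _ ⟨by simp only [← mul_assoc, (hxy m).2.2.2.2.1],
            by rw [mul_assoc, (hxy l).2.2.2.1]⟩]
          simp only [← mul_assoc]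
      _ = F c.1 * a := by simp only [F, sum_mul, ← mul_assoc]
  have hinv : ∀ c : Subalgebra.center 𝕜 hi.Corner, F c.1 * i = c.1.1 := by
    intro c
    have hcc : ∀ r : KG, i * r = r ∧ r * i = r → r * c.1.1 = c.1.1 * r := fun r hr =>
      congrArg Subtype.val (Subalgebra.mem_center_iff.1 c.2 (⟨r, mem_corner hi hr⟩ : hi.Corner))
    calc F c.1 * i = ∑ l, x l * (c.1.1 * (y l * i)) := by simp only [F, sum_mul, mul_assoc]
      _ = ∑ l, j l * i * c.1.1 := sum_congr rfl fun l _ => by
          rw [← hcc _ ⟨by rw [← mul_assoc, (hxy l).2.2.2.2.1], by rw [mul_assoc, hi.eq]⟩,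
            ← (hxy l).1]
          simp only [mul_assoc]
      _ = b * i * c.1.1 := by rw [← sum_mul, ← sum_mul, hsum]
      _ = c.1.1 := by
          rw [mul_assoc, (corner_mem hi c.1).1]
          rw [← (corner_mem hi c.1).1, ← mul_assoc]
          congr 1
          rcases Nat.eq_zero_or_pos n with h0 | h0
          · subst h0
            exact absurd (by simpa using hsum.symm) (idem_ne_zero (M := M) hB)
          · rw [← (hxy ⟨0, h0⟩).2.1, ← mul_assoc]
            congr 1
            rw [← (hxy ⟨0, h0⟩).2.2.2.2.2, ← mul_assoc, hbc, mul_assoc, hb]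
  let Φ : Subalgebra.center 𝕜 hi.Corner →ₗ[𝕜] (G → 𝕜) :=
    { toFun := fun c g => (F c.1).coeff g
      map_add' := fun c d => funext fun g => by
        rw [show F (c + d).1 = F c.1 + F d.1 by
          simp only [F, ← sum_add_distrib]
          exact sum_congr rfl fun l _ => by rw [← add_mul, ← mul_add]; rfl]
        rfl
      map_smul' := fun r c => funext fun g => by
        rw [show F (r • c).1 = r • F c.1 by
          simp only [F, smul_sum]
          exact sum_congr rfl fun l _ => by rw [← smul_mul_assoc, ← mul_smul_comm]; rfl]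
        rfl }
  have hΦ : Function.Injective Φ := fun c d h => Subtype.ext (Subtype.ext (by
    rw [← hinv c, ← hinv d, show F c.1 = F d.1 from coeff_ext fun g => congrFun h g]))
  let e : G → ℂ := blockCoeff B
  have hmem : ∀ (K : ConjClasses G) (g : G),
      conv e (CfsgLib.Block.classInd K.out) g ∈ localRing M := fun K g =>
    Subring.sum_mem _ fun h _ => Subring.mul_mem _ ((isIntClass_blockCoeff hB).2 h)
      ((isIntClass_classInd K.out).2 _)
  let v : ConjClasses G → G → localRing M := fun K g => ⟨_, hmem K g⟩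
  have hrange : LinearMap.range Φ ≤
      Submodule.span 𝕜 (Set.range fun K g => res M (v K g)) := by
    rintro _ ⟨c, rfl⟩
    set z := F c.1
    have hz : z ∈ alg 𝕜 ⊤ ⊤ := mem_alg_top fun g t =>
      (fixBy_iff_commute.2 fun t _ => (hcen c _)).coeff_eq' (Subgroup.mem_top t) g
    have hbz : b * z = z := by
      simp only [z, F, mul_sum, ← mul_assoc, hbx]
    set a := liftFun z
    have ha := isIntClass_liftFun (M := M) hz
    have hzK : ∀ g, z.coeff g = ∑ h : G, (idem M B).coeff h * z.coeff (h⁻¹ * g) := fun g => by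
      conv_lhs => rw [← hbz]
      rw [CfsgLib.BrauerPairs.coeff_mul]
    have : Φ c = ∑ K : ConjClasses G, z.coeff K.out • fun g => res M (v K g) := by
      funext g
      show z.coeff g = _
      rw [hzK, Finset.sum_apply]
      simp only [Pi.smul_apply, smul_eq_mul]
      have hv : ∀ K : ConjClasses G, res M (v K g) =
          ∑ h : G, red M (e h) * red M (CfsgLib.Block.classInd K.out (h⁻¹ * g)) := fun K => by
        rw [← red_eq (hmem K g), conv, red_sum _ fun h _ => memLocalRing_mul
          ((isIntClass_blockCoeff hB).2 h) ((isIntClass_classInd K.out).2 _)]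
        exact sum_congr rfl fun h _ => red_mul ((isIntClass_blockCoeff hB).2 h)
          ((isIntClass_classInd K.out).2 _)
      simp only [hv, mul_sum]
      rw [sum_comm]
      refine sum_congr rfl fun h _ => ?_
      rw [sum_eq_single (ConjClasses.mk (h⁻¹ * g))]
      · have hc : IsConj (ConjClasses.mk (h⁻¹ * g)).out (h⁻¹ * g) :=
          ConjClasses.mk_eq_mk_iff_isConj.1 (Quotient.out_eq _)
        obtain ⟨t, ht⟩ := isConj_iff.1 hc
        have hzc : z.coeff (h⁻¹ * g) = z.coeff (ConjClasses.mk (h⁻¹ * g)).out := by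
          conv_lhs => rw [← ht]
          exact hz.2.coeff_eq' (Subgroup.mem_top t) _
        rw [classInd_of_isConj hc, red_one, mul_one, idem, coeff_redFun, hzc, mul_comm]
      · intro K _ hK
        rw [classInd_of_not_isConj fun hc => hK ((Quotient.out_eq K).symm.trans
          (ConjClasses.mk_eq_mk_iff_isConj.2 hc)), red_zero, mul_zero, mul_zero]
      · simp
    rw [this]
    exact Submodule.sum_mem _ fun K _ => Submodule.smul_mem _ _ (Submodule.subset_span ⟨K, rfl⟩)
  have hV : Submodule.span ℂ (Set.range fun K g => (v K g : ℂ)) ≤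
      Submodule.span ℂ (Set.range fun χ : B => fun g => conj (((χ : IrrCharacter G) : G → ℂ) g)) := by
    rw [Submodule.span_le]
    rintro _ ⟨K, rfl⟩
    have hcl := isClassFunction_conv (isClassFunction_blockCoeff (G := G) B)
      (isClassFunction_classInd K.out)
    have : (fun g => (v K g : ℂ)) = ∑ χ : B, ((Nat.card G : ℂ)⁻¹ * ((χ : IrrCharacter G) : G → ℂ) 1 *
        omega ((χ : IrrCharacter G) : G → ℂ) (CfsgLib.Block.classInd K.out)) •
          fun g => conj (((χ : IrrCharacter G) : G → ℂ) g) := by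
      funext g
      show conv e _ g = _
      rw [eq_sum_omega hcl g, mul_sum, Finset.sum_apply]
      rw [← sum_filter_add_sum_filter_not univ (· ∈ B),
        sum_eq_zero (s := univ.filter fun χ => ¬ χ ∈ B) fun χ hχ => by
          rw [omega_conv χ (isClassFunction_blockCoeff B), omega_blockCoeff,
            if_neg (mem_filter.1 hχ).2]
          simp, add_zero]
      rw [sum_subtype (univ.filter (· ∈ B)) (p := (· ∈ B)) (by simp)]
      refine sum_congr rfl fun χ _ => ?_
      rw [omega_conv χ.1 (isClassFunction_blockCoeff B), omega_blockCoeff, if_pos χ.2, one_mul,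
        Pi.smul_apply, smul_eq_mul]
      ring
    show (fun g => (v K g : ℂ)) ∈ _
    rw [this]
    exact Submodule.sum_mem _ fun χ _ => Submodule.smul_mem _ _ (Submodule.subset_span ⟨χ, rfl⟩)
  rw [Nat.card_eq_fintype_card, ← LinearMap.finrank_range_of_inj hΦ]
  exact (Submodule.finrank_mono hrange).trans ((finrank_red_le v).trans
    ((Submodule.finrank_mono hV).trans (finrank_range_le_card _)))

theorem pElt_one : PElt p (1 : G) (1 : G) :=
  ⟨⟨0, by simp⟩, by rw [orderOf_one, Nat.dvd_one]; exact (Fact.out : p.Prime).ne_one,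
    Commute.one_left _⟩

theorem fixBy_one_one (a : KG) : FixBy (Subgroup.zpowers (1 : G) ⊔ Subgroup.zpowers (1 : G)) a := by
  refine fixBy_iff_commute.2 fun t ht => ?_
  rw [Subgroup.zpowers_one_eq_bot, sup_bot_eq, Subgroup.mem_bot] at ht
  rw [ht, ← MonoidAlgebra.one_def]
  exact Commute.one_left a

theorem fixBy_bot (a : KG) : FixBy (⊥ : Subgroup G) a := fixBy_iff_commute.2 fun t ht => by
  rw [Subgroup.mem_bot.1 ht, ← MonoidAlgebra.one_def]
  exact Commute.one_left a

/-- The value of a member at the idempotent of its block. -/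
theorem val_idem (hM : IsPModular p M) (hB : IsPBlock M B) {χ : IrrCharacter G} (hχ : χ ∈ B) :
    val χ 1 1 (idem M B) = (χ : G → ℂ) 1 := by
  letI := irrFintype (G := G)
  have he := (isIntClass_blockCoeff hB).2
  have hconv : conv (blockCoeff B) (blockCoeff B) = (blockCoeff B : G → ℂ) := by
    have hc := isClassFunction_blockCoeff (G := G) B
    funext g
    rw [eq_sum_omega (isClassFunction_conv hc hc) g, eq_sum_omega hc g]
    congr 1
    refine Finset.sum_congr rfl fun ψ _ => ?_
    rw [omega_conv ψ hc, omega_blockCoeff]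
    split_ifs <;> simp
  set E : LA M G := MonoidAlgebra.ofCoeff (Finsupp.equivFunOnFinite.symm fun g =>
    (⟨blockCoeff B g, he g⟩ : localRing M))
  have hE : ∀ g, (E.coeff g : ℂ) = blockCoeff B g := fun g => rfl
  have hEE : E * E = E := by
    refine MonoidAlgebra.coeff_injective (Finsupp.ext fun g => Subtype.ext ?_)
    rw [coeff_mul', hE]
    push_cast
    simp only [hE]
    exact congrFun hconv g
  have hred : redA E = idem M B := by
    refine MonoidAlgebra.coeff_injective (Finsupp.ext fun g => ?_)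
    rw [coeff_redA, idem, coeff_redFun, red_eq (he g)]
    rfl
  rw [val_eq hM χ (pElt_one (p := p)) hEE (by rw [← MonoidAlgebra.one_def]; exact Commute.one_left E)
    (by rw [← MonoidAlgebra.one_def]; exact Commute.one_left E) (idem_idem hB) (fixBy_one_one _)
    (by rw [hred]), sval, mul_one]
  simp only [mul_one, hE]
  have h := omega_blockCoeff B χ
  rw [if_pos hχ, omega, div_eq_one_iff_eq (irr_one_ne_zero χ)] at h
  exact h

theorem exists_nat_val (hM : IsPModular p M) (χ : IrrCharacter G) {ε : KG} (hε : ε * ε = ε) :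
    ∃ s : ℕ, val χ 1 1 ε = (s : ℂ) := by
  obtain ⟨b, hb, hbred, hbT⟩ := exists_lift (M := M) (⊥ : Subgroup G) hε
    (fixBy_bot ε)
  have h1 : ∀ y ∈ (⊥ : Subgroup G), Commute (MonoidAlgebra.single y (1 : localRing M)) b := hbT
  obtain ⟨n, ρ, hρ⟩ := isCharacter_sval χ hb h1
  have hn : sval χ (1 : G) b = (n : ℂ) := by
    have h := congrFun hρ 1
    rw [Representation.char_one, Module.finrank_fin_fun] at h
    exact h.symm
  refine ⟨n, ?_⟩
  rw [val_eq hM χ (pElt_one (p := p)) hb (hbT 1 (one_mem _)) (hbT 1 (one_mem _)) hε (fixBy_one_one _)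
    (by rw [hbred]), mul_one]
  exact hn

theorem card_conj_eq (x w : G) :
    ((univ.filter fun g : G => g⁻¹ * x * g = w).card : ℂ) =
      if IsConj x w then (Nat.card (Subgroup.centralizer ({x} : Set G)) : ℂ) else 0 := by
  split_ifs with h
  · obtain ⟨t, ht⟩ := isConj_iff.1 h
    rw [← Fintype.card_subtype, Nat.card_eq_fintype_card]
    norm_cast
    refine Fintype.card_congr
      { toFun := fun g => ⟨g.1 * t, Subgroup.mem_centralizer_singleton_iff.2 ?_⟩
        invFun := fun c => ⟨c.1 * t⁻¹, ?_⟩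
        left_inv := fun g => Subtype.ext (mul_inv_cancel_right _ _)
        right_inv := fun c => Subtype.ext (inv_mul_cancel_right _ _) }
    · have h2 : g.1⁻¹ * x * g.1 = t * x * t⁻¹ := g.2.trans ht.symm
      calc g.1 * t * x = g.1 * (t * x * t⁻¹) * t := by group
        _ = x * (g.1 * t) := by rw [← h2]; group
    · have h2 := Subgroup.mem_centralizer_singleton_iff.1 c.2
      rw [← ht]
      calc (c.1 * t⁻¹)⁻¹ * x * (c.1 * t⁻¹) = t * c.1⁻¹ * (x * c.1) * t⁻¹ := by group
        _ = t * x * t⁻¹ := by rw [← h2]; group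
  · rw [Nat.cast_eq_zero, card_eq_zero, filter_eq_empty_iff]
    intro g _ hg
    exact h (isConj_iff.2 ⟨g⁻¹, by rw [inv_inv]; exact hg⟩)

/-- **The corner is the sum of the squares of the values.** -/
theorem finrank_cornerSub (hM : IsPModular p M) [Fintype (IrrCharacter G)] {i : KG}
    (hi : IsIdempotentElem i) :
    (Module.finrank 𝕜 (cornerSub 𝕜 i) : ℂ) = ∑ χ : IrrCharacter G, val χ 1 1 i ^ 2 := by
  obtain ⟨b, hb, hbred, hbT⟩ := exists_lift (M := M) (⊥ : Subgroup G) (ε := i) hi
    (fixBy_bot i)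
  let Q : Matrix G G (localRing M) := Matrix.of fun g h =>
    (b * MonoidAlgebra.single h 1 * b).coeff g
  have hlin : ∀ (a : LA M G) (g : G),
      (b * a * b).coeff g = ∑ h, (b * MonoidAlgebra.single h 1 * b).coeff g * a.coeff h := by
    intro a g
    conv_lhs => rw [show a = ∑ h, a.coeff h • MonoidAlgebra.single h (1 : localRing M) from
      MonoidAlgebra.coeff_injective (Finsupp.ext fun g => by
        rw [MonoidAlgebra.coeff_sum, Finsupp.finsetSum_apply, sum_eq_single g]
        · simp
        · intro h _ hne; simp [hne]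
        · simp)]
    rw [mul_sum, sum_mul, MonoidAlgebra.coeff_sum, Finsupp.finsetSum_apply]
    refine sum_congr rfl fun h _ => ?_
    rw [mul_smul_comm, smul_mul_assoc, MonoidAlgebra.coeff_smul, Finsupp.smul_apply, smul_eq_mul,
      mul_comm]
  have hQ : Q * Q = Q := by
    ext g h
    refine congrArg Subtype.val ?_
    rw [Matrix.mul_apply]
    simp only [Q, Matrix.of_apply]
    rw [← hlin]
    conv_rhs => rw [← hb]
    congr 2
    simp only [← mul_assoc]
  have hrk := rank_res_eq hQ
  have hmv : ∀ (f : G → 𝕜) (g : G), (Q.map (res M)).mulVec f g = (i * ofFun f * i).coeff g := by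
    intro f g
    conv_rhs => rw [sum_single_smul (M := M) (ofFun f), mul_sum, sum_mul,
      MonoidAlgebra.coeff_sum, Finsupp.finsetSum_apply]
    refine sum_congr rfl fun h _ => ?_
    rw [mul_smul_comm, smul_mul_assoc, MonoidAlgebra.coeff_smul, Finsupp.smul_apply, smul_eq_mul,
      ← hbred, ← redA_single h, ← map_mul, ← map_mul, coeff_redA, mul_comm]
    simp [Q, coeff_ofFun]
  let Ψ : KG →ₗ[𝕜] (G → 𝕜) :=
    { toFun := fun a g => a.coeff g
      map_add' := fun a c => funext fun g => by simp
      map_smul' := fun r a => funext fun g => by simp }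
  have hΨ : Function.Injective Ψ := fun a c h => coeff_ext fun g => congrFun h g
  have himg : LinearMap.range (Q.map (res M)).mulVecLin = (cornerSub 𝕜 i).map Ψ := by
    ext w
    constructor
    · rintro ⟨f, rfl⟩
      refine ⟨i * ofFun f * i, ⟨?_, ?_⟩, funext fun g => (hmv f g).symm⟩
      · rw [← mul_assoc, ← mul_assoc, hi.eq]
      · rw [mul_assoc, hi.eq]
    · rintro ⟨a, ⟨ha1, ha2⟩, rfl⟩
      refine ⟨fun g => a.coeff g, funext fun g => (hmv _ g).trans ?_⟩
      rw [show ofFun (fun g => a.coeff g) = a from coeff_ext fun h => by simp, ha1, ha2]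
      rfl
  rw [himg, ← LinearEquiv.finrank_eq (Submodule.equivMapOfInjective Ψ hΨ _)] at hrk
  rw [hrk]
  have hval : ∀ χ : IrrCharacter G, val χ 1 1 i = ∑ g : G, (b.coeff g : ℂ) * (χ : G → ℂ) g := fun χ => by
    rw [val_eq hM χ (pElt_one (p := p)) hb (hbT 1 (one_mem _)) (hbT 1 (one_mem _)) hi
      (fixBy_one_one _) (by rw [hbred]), sval]
    simp
  have hdiag : ∀ g : G, (Q g g : ℂ) = ∑ x : G, (b.coeff x : ℂ) * (b.coeff (g⁻¹ * x⁻¹ * g) : ℂ) := by
    intro g
    simp only [Q, Matrix.of_apply, mul_assoc b _ b]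
    rw [coeff_mul']
    push_cast
    refine sum_congr rfl fun x _ => ?_
    rw [MonoidAlgebra.coeff_single_mul_apply, one_mul, mul_assoc g⁻¹]
  simp only [hdiag, hval, sq, sum_mul_sum]
  rw [sum_comm (γ := G), sum_comm (γ := IrrCharacter G)]
  refine sum_congr rfl fun x _ => ?_
  rw [sum_comm (γ := IrrCharacter G)]
  rw [sum_congr rfl fun w (_ : w ∈ (univ : Finset G)) => show
      ∑ χ : IrrCharacter G, (b.coeff x : ℂ) * (χ : G → ℂ) x * ((b.coeff w : ℂ) * (χ : G → ℂ) w) =
        (b.coeff x : ℂ) * (b.coeff w : ℂ) * (univ.filter fun g : G => g⁻¹ * x * g = w⁻¹).card by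
    rw [card_conj_eq, ← column_orth, mul_sum]
    exact sum_congr rfl fun χ _ => by rw [conj_irr χ w⁻¹, inv_inv]; ring]
  rw [← sum_fiberwise univ (fun g : G => g⁻¹ * x⁻¹ * g)]
  refine sum_congr rfl fun w _ => ?_
  rw [sum_congr rfl fun g hg => by rw [(mem_filter.1 hg).2], sum_const, nsmul_eq_mul, mul_comm]
  congr 3
  refine filter_congr fun g _ => ?_
  constructor
  · intro h; rw [← h]; group
  · intro h; rw [← inv_inv w, ← h]; group

/-- **The corner of a block of rank one is at least as large as the defect group.** -/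
theorem pow_le_finrank_cornerSub (hM : IsPModular p M) (hB : IsPBlock M B)
    (hl : blockRank p B = 1) {i : KG} (hi : IsPrim i) {n : ℕ} {j x y : Fin n → KG} (hn : 0 < n)
    (hj : ∀ l, IsPrim (j l)) (horth : ∀ l m, l ≠ m → j l * j m = 0) (hsum : ∑ l, j l = idem M B)
    (hxy : ∀ l, x l * y l = j l ∧ y l * x l = i ∧ j l * x l = x l ∧ x l * i = x l ∧
        i * y l = y l ∧ y l * j l = y l) :
    p ^ blockDefect p B ≤ Module.finrank 𝕜 (cornerSub 𝕜 i) := by
  letI := irrFintype (G := G)
  haveI : Fintype B := Fintype.ofFinite B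
  choose s hs using fun χ : IrrCharacter G => exists_nat_val (ε := i) hM χ hi.2.1
  have hlink : ∀ χ : IrrCharacter G, ∀ l, val χ 1 1 (j l) = (s χ : ℂ) := fun χ l => by
    obtain ⟨h1, h2, h3, h4, h5, h6⟩ := hxy l
    rw [← hs]
    exact val_link hM χ (pElt_one (p := p)) (hj l).2.1 (fixBy_one_one _) hi.2.1 (fixBy_one_one _)
      (fixBy_one_one _) (fixBy_one_one _) h1 h2 h3 h4 h5 h6
  have hadd : ∀ (χ : IrrCharacter G) (t : Finset (Fin n)),
      val χ 1 1 (∑ l ∈ t, j l) = ∑ l ∈ t, val χ 1 1 (j l) ∧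
        (∑ l ∈ t, j l) * (∑ l ∈ t, j l) = ∑ l ∈ t, j l := by
    intro χ t
    induction t using Finset.induction with
    | empty => simp [val_zero hM χ (pElt_one (p := p))]
    | @insert a t hat ih =>
      have h1 : j a * ∑ l ∈ t, j l = 0 := by
        rw [mul_sum]; exact sum_eq_zero fun l hl => horth a l fun h => hat (h ▸ hl)
      have h2 : (∑ l ∈ t, j l) * j a = 0 := by
        rw [sum_mul]; exact sum_eq_zero fun l hl => horth l a fun h => hat (h.symm ▸ hl)
      rw [sum_insert hat, sum_insert hat]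
      refine ⟨?_, by rw [add_mul, mul_add, mul_add, (hj a).2.1, ih.2, h1, h2]; abel⟩
      rw [val_add hM χ (pElt_one (p := p)) (hj a).2.1 (fixBy_one_one _) ih.2 (fixBy_one_one _) h1 h2,
        ih.1]
  obtain ⟨φ, d, ⟨m, hm⟩, hd, hsq⟩ := rank_one_decomposition hM hB hl
  have hone : IsPRegular p (1 : G) := by simp [IsPRegular, Nat.dvd_one, hM.1.ne_one]
  have hdeg : ∀ χ ∈ B, (χ : G → ℂ) 1 = (n : ℂ) * (s χ : ℂ) := fun χ hχ => by
    rw [← val_idem hM hB hχ, ← hsum, (hadd χ univ).1, sum_congr rfl fun l _ => hlink χ l]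
    simp
  have hfin : ∀ {α : Type} [AddCommMonoid α] (F : IrrCharacter G → α),
      ∑ᶠ ψ ∈ B, F ψ = ∑ ψ : B, F ψ.1 := fun F => by
    rw [finsum_mem_eq_sum_of_inter_support_eq (t := univ.filter (· ∈ B)) _ (by ext; simp)]
    exact sum_subtype (univ.filter (· ∈ B)) (p := (· ∈ B)) (by simp) F
  set q : ℤ := ∑ ψ : B, m ψ.1 * (s ψ.1 : ℤ) with hq
  have hφ : φ 1 = (n : ℂ) * (q : ℂ) := by
    rw [hm 1 hone, hfin fun ψ => (m ψ : ℂ) * (ψ : G → ℂ) 1, hq]
    push_cast
    rw [mul_sum]
    exact sum_congr rfl fun ψ _ => by rw [hdeg ψ.1 ψ.2]; ring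
  have hsq' : ∀ χ : B, (s χ.1 : ℤ) = (d χ.1 : ℤ) * q := fun χ => by
    have h := hd χ.1 χ.2 1 hone
    rw [hdeg χ.1 χ.2, hφ] at h
    have h' : (n : ℂ) * (s χ.1 : ℂ) = (n : ℂ) * ((d χ.1 : ℂ) * q) := by rw [h]; ring
    exact_mod_cast mul_left_cancel₀ (Nat.cast_ne_zero.2 hn.ne') h'
  have hq0 : q ≠ 0 := by
    intro h0
    obtain ⟨χ, hχ, -⟩ := exists_height_zero hM hB
    refine irr_one_ne_zero χ ?_
    have := hsq' ⟨χ, hχ⟩
    rw [h0, mul_zero, Int.natCast_eq_zero] at this
    rw [hdeg χ hχ, show s χ = 0 from this]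
    simp
  have hq1 : 1 ≤ q ^ 2 := Int.add_one_le_iff.2 ((sq_nonneg q).lt_of_ne (pow_ne_zero 2 hq0).symm)
  have hT : Module.finrank 𝕜 (cornerSub 𝕜 i) = ∑ χ : IrrCharacter G, s χ ^ 2 := by
    apply Nat.cast_injective (R := ℂ)
    rw [finrank_cornerSub hM hi.2.1]
    push_cast
    exact sum_congr rfl fun χ _ => by rw [hs]
  rw [hT, ← hsq, hfin fun χ => d χ ^ 2]
  refine le_trans ?_ (sum_le_sum_of_subset (subset_univ (univ.filter (· ∈ B))))
  rw [sum_subtype (univ.filter (· ∈ B)) (p := (· ∈ B)) (by simp) fun χ => s χ ^ 2]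
  refine sum_le_sum fun χ _ => ?_
  have h : ((d χ.1 : ℤ) ^ 2) ≤ (s χ.1 : ℤ) ^ 2 := by
    rw [hsq', mul_pow]
    exact le_mul_of_one_le_right (sq_nonneg _) hq1
  exact_mod_cast h

end CfsgLib.LocalSymm
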