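import Cfsg.Agent.BlocksB.LocalSymm.Small
import Cfsg.Agent.BlocksB.Star.LocalIdem
import Mathlib.RingTheory.Idempotents

/-!
# The corner algebra at a primitive idempotent
-/

set_option autoImplicit false
set_option linter.unusedSectionVars false
set_option linter.style.haveILetI false

namespace CfsgLib.LocalSymm

open CfsgLib.BlockStar

variable {k : Type*} [Field k] {A : Type*} [Ring A] [Algebra k A] {i : A}

/-- The corner at an idempotent as a subspace. -/
def cornerSub (k : Type*) [Field k] [Algebra k A] (i : A) : Submodule k A where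
  carrier := {x | i * x = x ∧ x * i = x}
  add_mem' := fun {a b} ha hb =>
    ⟨by rw [mul_add, ha.1, hb.1], by rw [add_mul, ha.2, hb.2]⟩
  zero_mem' := ⟨mul_zero _, zero_mul _⟩
  smul_mem' := fun c a ha => ⟨by rw [mul_smul_comm, ha.1], by rw [smul_mul_assoc, ha.2]⟩

variable (hi : IsIdempotentElem i)

theorem corner_mem (a : hi.Corner) : i * (a.1 : A) = a.1 ∧ (a.1 : A) * i = a.1 :=
  (Subsemigroup.mem_corner_iff hi).1 a.2

include hi in
theorem mem_corner {x : A} (h : i * x = x ∧ x * i = x) : x ∈ Subsemigroup.corner i :=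
  (Subsemigroup.mem_corner_iff hi).2 h

instance instModuleCorner : Module k hi.Corner where
  smul c a := ⟨c • (a.1 : A), mem_corner hi ((cornerSub k i).smul_mem c (corner_mem hi a))⟩
  one_smul a := Subtype.ext (one_smul k (a.1 : A))
  mul_smul c d a := Subtype.ext (mul_smul c d (a.1 : A))
  smul_zero c := Subtype.ext (smul_zero (A := A) c)
  smul_add c a b := Subtype.ext (smul_add c (a.1 : A) b.1)
  add_smul c d a := Subtype.ext (add_smul c d (a.1 : A))
  zero_smul a := Subtype.ext (zero_smul k (a.1 : A))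

noncomputable instance instAlgebraCorner : Algebra k hi.Corner :=
  Algebra.ofModule (fun c a b => Subtype.ext (smul_mul_assoc c (a.1 : A) b.1))
    (fun c a b => Subtype.ext (mul_smul_comm c (a.1 : A) b.1))

theorem coe_smul_corner (c : k) (a : hi.Corner) : ((c • a : hi.Corner).1 : A) = c • a.1 := rfl

theorem coe_one_corner : ((1 : hi.Corner).1 : A) = i := rfl

theorem coe_pow_corner (a : hi.Corner) (n : ℕ) : ((a ^ (n + 1) : hi.Corner).1 : A) = a.1 ^ (n + 1) := by
  induction n with
  | zero => simp
  | succ n ih =>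
    rw [pow_succ a (n + 1), pow_succ (a.1 : A) (n + 1)]
    show ((a ^ (n + 1) : hi.Corner).1 : A) * a.1 = _
    rw [ih]

/-- The corner and the subspace. -/
def cornerEquiv : hi.Corner ≃ₗ[k] cornerSub k i where
  toFun a := ⟨a.1, corner_mem hi a⟩
  invFun x := ⟨x.1, mem_corner hi x.2⟩
  map_add' _ _ := rfl
  map_smul' _ _ := rfl
  left_inv _ := rfl
  right_inv _ := rfl

instance instFiniteCorner [FiniteDimensional k A] : Module.Finite k hi.Corner :=
  Module.Finite.equiv (cornerEquiv hi).symm

variable [FiniteDimensional k A] [IsAlgClosed k] (hp : IsPrim i)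
include hp

theorem cornerRes_mul {a b : A} (ha : i * a = a ∧ a * i = a) (hb : i * b = b ∧ b * i = b) :
    cornerRes k i (a * b) = cornerRes k i a * cornerRes k i b := by
  have hi := hp.2.1
  have hc : ∀ {x : A}, i * x = x ∧ x * i = x → i * x * i = x := fun h => by rw [h.1, h.2]
  set c := cornerRes k i a
  set d := cornerRes k i b
  have hn := cornerRes_spec (k := k) hp a
  have hm := cornerRes_spec (k := k) hp b
  rw [hc ha] at hn
  rw [hc hb] at hm
  set n := a - c • i
  set m := b - d • i
  have hn' : i * n = n ∧ n * i = n :=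
    ⟨by rw [mul_sub, ha.1, mul_smul_comm, hi], by rw [sub_mul, ha.2, smul_mul_assoc, hi]⟩
  have hm' : i * m = m ∧ m * i = m :=
    ⟨by rw [mul_sub, hb.1, mul_smul_comm, hi], by rw [sub_mul, hb.2, smul_mul_assoc, hi]⟩
  have hnm : IsNilpotent (n * m) := by
    refine (hp.nilpotent_or_inv k (a := n * m) (by rw [← mul_assoc, hn'.1])
      (by rw [mul_assoc, hm'.2])).resolve_right ?_
    rintro ⟨w, -, -, hw, -⟩
    exact not_nilpotent_of_right_inv hp.1 hn'.2 (b := m * w) (by rw [← mul_assoc, hw]) hn
  refine cornerRes_eq hp ?_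
  rw [hc ⟨by rw [← mul_assoc, ha.1], by rw [mul_assoc, hb.2]⟩]
  have e : a * b - (c * d) • i = c • m + d • n + n * m := by
    simp only [n, m, mul_sub, sub_mul, smul_sub, mul_smul_comm, smul_mul_assoc, ha.2, hb.1, hi,
      smul_smul]
    module
  rw [e]
  refine hp.nilpotent_add k ?_ ?_ ?_ ?_ (hp.nilpotent_add k ?_ ?_ ?_ ?_ (hm.smul c) (hn.smul d)) hnm
    <;> simp [mul_add, add_mul, mul_smul_comm, smul_mul_assoc, ← mul_assoc, hn'.1, hm'.1,
      hn'.2, hm'.2, mul_assoc n m i]

/-- The residue map of the corner. -/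
noncomputable def cornerHom : hi.Corner →ₐ[k] k :=
  AlgHom.ofLinearMap
    { toFun := fun a => cornerRes k i a.1
      map_add' := fun a b => cornerRes_add hp a.1 b.1
      map_smul' := fun c a => cornerRes_smul hp c a.1 }
    (cornerRes_self hp) (fun a b => cornerRes_mul hp (corner_mem hi a) (corner_mem hi b))

theorem isNilpotent_of_cornerHom (a : hi.Corner) (h : cornerHom (k := k) hi hp a = 0) : IsNilpotent a := by
  have hs := cornerRes_spec (k := k) hp (a.1 : A)
  rw [show cornerRes k i (a.1 : A) = 0 from h, zero_smul, sub_zero, (corner_mem hi a).1,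
    (corner_mem hi a).2] at hs
  obtain ⟨n, hn⟩ := hs
  refine ⟨n + 1, Subtype.ext ?_⟩
  rw [coe_pow_corner, pow_succ, hn, zero_mul]
  rfl

end CfsgLib.LocalSymm
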