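import Cfsg.Agent.BlocksB.LocalSymm.Corner
import Cfsg.Agent.BlocksB.Cyclic.Counting
import Cfsg.Agent.BlocksB.Cyclic.Lift
import Mathlib.RingTheory.Finiteness.Basic

/-!
# Primitive idempotents of a block of rank one

All primitive idempotents below the idempotent of a block of rank one are linked.
-/

set_option autoImplicit false
set_option linter.unusedSectionVars false
set_option linter.style.haveILetI false

namespace CfsgLib.LocalSymm

open Cfsg Finset CfsgLib.Block CfsgLib.Block.Chr CfsgLib.BrauerPairs CfsgLib.BlockStar CfsgLib.Cyclic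
  MonoidAlgebra

universe u

variable {M : Ideal AlgInt} [M.IsPrime] {p : ℕ} [Fact p.Prime] [CharP (Residue M) p]
  {G : Type u} [Group G] [Fintype G] {B : Set (IrrCharacter G)}

local notation "𝕜" => Residue M
local notation "KG" => MonoidAlgebra (Residue M) G

theorem idem_central (hM : IsPModular p M) (hB : IsPBlock M B) (a : KG) :
    idem M B * a = a * idem M B :=
  (alg_commute le_rfl (suppIn_top a) (idem_mem B).2).symm

/-- In a block of rank one any two primitive idempotents are linked. -/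
theorem link_of_rank_one (hM : IsPModular p M) (hB : IsPBlock M B) (hl : blockRank p B = 1)
    {i j : KG} (hi : IsPrim i) (hj : IsPrim j) (hbi : idem M B * i = i) (hbj : idem M B * j = j) :
    Link j i := by
  classical
  let E : Fin 2 → KG := ![i, j]
  have hE : ∀ l, IsPrim (E l) ∧ idem M B * E l = E l := fun l => by
    fin_cases l
    · exact ⟨hi, hbi⟩
    · exact ⟨hj, hbj⟩
  let Λ : Fin 2 → Submodule KG KG := fun l => Submodule.span KG {E l}
  let gen : ∀ l, Λ l := fun l => ⟨E l, Submodule.mem_span_singleton_self _⟩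
  have hco : ∀ l, ∃ J : Submodule KG (Λ l), IsSimpleModule KG (Λ l ⧸ J) ∧
      Submodule.Quotient.mk (p := J) (gen l) ≠ 0 := by
    intro l
    haveI : Module.Finite KG (Λ l) :=
      Module.Finite.iff_fg.2 ⟨{E l}, by rw [coe_singleton]⟩
    obtain h | ⟨J, hJ, -⟩ := eq_top_or_exists_le_coatom (⊥ : Submodule KG (Λ l))
    · exfalso
      have h1 : gen l ∈ (⊥ : Submodule KG (Λ l)) := h ▸ Submodule.mem_top
      exact (hE l).1.1 (congrArg Subtype.val ((Submodule.mem_bot KG).1 h1))
    refine ⟨J, isSimpleModule_iff_isCoatom.2 hJ, fun h0 => hJ.1 (eq_top_iff.2 fun x _ => ?_)⟩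
    obtain ⟨c, hc⟩ := Submodule.mem_span_singleton.1 x.2
    rw [show x = c • gen l from Subtype.ext hc.symm]
    exact J.smul_mem c ((Submodule.Quotient.mk_eq_zero J).1 h0)
  choose J hJ hne using hco
  haveI : ∀ l, FiniteDimensional 𝕜 (Λ l ⧸ J l) := fun l => by
    haveI : FiniteDimensional 𝕜 (Λ l) :=
      inferInstanceAs (FiniteDimensional 𝕜 ((Λ l).restrictScalars 𝕜))
    exact Module.Finite.of_surjective ((J l).mkQ.restrictScalars 𝕜) (J l).mkQ_surjective
  haveI := hJ
  by_contra hnl
  have hfix : ∀ l, E l • Submodule.Quotient.mk (p := J l) (gen l) =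
      Submodule.Quotient.mk (p := J l) (gen l) := fun l => by
    rw [← Submodule.Quotient.mk_smul]
    exact congrArg _ (Subtype.ext (hE l).1.2.1)
  have hiso : ¬ Nonempty ((Λ 0 ⧸ J 0) ≃ₗ[KG] (Λ 1 ⧸ J 1)) := by
    rintro ⟨σ⟩
    set v := σ (Submodule.Quotient.mk (gen 0)) with hv
    have hv0 : v ≠ 0 := fun h => hne 0 (σ.map_eq_zero_iff.1 h)
    have hiv : i • v = v := by rw [hv, ← map_smul]; exact congrArg σ (hfix 0)
    obtain ⟨c, hc⟩ := exists_smul_of_ne_zero' (R := KG) hv0 (Submodule.Quotient.mk (p := J 1) (gen 1))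
    obtain ⟨⟨w, hw⟩, hwv⟩ := (J 1).mkQ_surjective v
    obtain ⟨a, rfl⟩ := Submodule.mem_span_singleton.1 hw
    have hva : v = a • Submodule.Quotient.mk (p := J 1) (gen 1) := by
      rw [← hwv, ← Submodule.Quotient.mk_smul]; rfl
    set g := Submodule.Quotient.mk (p := J 1) (gen 1)
    have hjg : j • g = g := hfix 1
    set y := j * c * i
    set x := i * a * j
    have hyx : (y * x) • g = g := by
      calc (y * x) • g = j • c • i • i • a • j • g := by simp only [y, x, mul_smul]
        _ = g := by rw [hjg, ← hva, hiv, hiv, hc, hjg]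
    have hjy : j * y = y := by simp only [y, ← mul_assoc, hj.2.1]
    have hyi : y * i = y := by simp only [y, mul_assoc, hi.2.1]
    have hix : i * x = x := by simp only [x, ← mul_assoc, hi.2.1]
    have hxj : x * j = x := by simp only [x, mul_assoc, hj.2.1]
    refine hnl (exists_link_of_inv 𝕜 hj hi hjy hyi hix hxj fun ⟨n, hn⟩ => ?_)
    have hpow : ∀ r, (y * x) ^ r • g = g := fun r => by
      induction r with
      | zero => rw [pow_zero, one_smul]
      | succ r ih => rw [pow_succ, mul_smul, hyx, ih]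
    exact hne 1 (by have := hpow n; rwa [hn, zero_smul, eq_comm] at this)
  have hcard := card_simple_le_blockRank hM hB (fun l => Λ l ⧸ J l)
    (fun l m hlm => ⟨fun σ => ?_⟩) (fun l z => ?_)
  · rw [Fintype.card_fin, hl] at hcard
    omega
  · fin_cases l <;> fin_cases m
    · exact hlm rfl
    · exact hiso ⟨σ⟩
    · exact hiso ⟨σ.symm⟩
    · exact hlm rfl
  · obtain ⟨⟨w, hw⟩, rfl⟩ := (J l).mkQ_surjective z
    obtain ⟨a, rfl⟩ := Submodule.mem_span_singleton.1 hw
    rw [← map_smul]
    refine congrArg _ (Subtype.ext ?_)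
    show idem M B * (a * E l) = a * E l
    rw [← mul_assoc, idem_central hM hB, mul_assoc, (hE l).2]

/-- A decomposition of the idempotent of a block of rank one. -/
theorem exists_matrix_units (hM : IsPModular p M) (hB : IsPBlock M B) (hl : blockRank p B = 1) :
    ∃ (i : KG) (n : ℕ) (j x y : Fin n → KG), IsPrim i ∧ idem M B * i = i ∧ 0 < n ∧
      (∀ l, IsPrim (j l) ∧ idem M B * j l = j l) ∧ (∀ l m, l ≠ m → j l * j m = 0) ∧
      ∑ l, j l = idem M B ∧
      ∀ l, x l * y l = j l ∧ y l * x l = i ∧ j l * x l = x l ∧ x l * i = x l ∧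
        i * y l = y l ∧ y l * j l = y l := by
  obtain ⟨n, j, hj, horth, hsum⟩ := exists_decomp 𝕜 (idem_idem (M := M) hB)
  have hn : 0 < n := Nat.pos_of_ne_zero fun h => by
    subst h
    exact idem_ne_zero (M := M) hB (by simpa using hsum.symm)
  have hL : ∀ l, Link (j l) (j ⟨0, hn⟩) := fun l =>
    link_of_rank_one hM hB hl (hj _).1 (hj l).1 (hj _).2.1 (hj l).2.1
  choose x y h1 h2 h3 h4 h5 h6 using hL
  exact ⟨j ⟨0, hn⟩, n, j, x, y, (hj _).1, (hj _).2.1, hn, fun l => ⟨(hj l).1, (hj l).2.1⟩, horth,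
    hsum, fun l => ⟨h1 l, h2 l, h3 l, h4 l, h5 l, h6 l⟩⟩

end CfsgLib.LocalSymm
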