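import Cfsg.Agent.BlocksB.LocalSymm.Dims
import Cfsg.Agent.BlocksB.KleinDefect.Relations
import Cfsg.Agent.BlocksB.InertialAbelian
import Cfsg.Agent.S4649

/-!
# Blocks of rank one with at most four characters
-/

set_option autoImplicit false
set_option linter.unusedSectionVars false
set_option linter.style.haveILetI false

namespace CfsgLib.LocalSymm

open Cfsg Finset CfsgLib.Block CfsgLib.Block.Chr CfsgLib.BrauerPairs CfsgLib.BlockStar CfsgLib.Cyclic
  MonoidAlgebra CfsgLib.BlockB
open scoped Classical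

universe u

variable {M : Ideal AlgInt} [M.IsPrime] {p : ℕ} [Fact p.Prime] [CharP (Residue M) p]
  {G : Type u} [Group G] [Fintype G] {B : Set (IrrCharacter G)}

local notation "𝕜" => Residue M
local notation "KG" => MonoidAlgebra (Residue M) G

/-- The coefficient at the identity. -/
noncomputable def coeffOne (G : Type u) [Group G] [Fintype G] (k : Type*) [Field k] :
    MonoidAlgebra k G →ₗ[k] k where
  toFun a := a.coeff 1
  map_add' a b := by simp
  map_smul' c a := by simp

theorem coeffOne_mul_comm {k : Type*} [Field k] (a b : MonoidAlgebra k G) :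
    coeffOne G k (a * b) = coeffOne G k (b * a) := by
  show (a * b).coeff 1 = (b * a).coeff 1
  rw [CfsgLib.BrauerPairs.coeff_mul, CfsgLib.BrauerPairs.coeff_mul]
  refine Fintype.sum_equiv (Equiv.inv G) _ _ fun g => ?_
  show a.coeff g * b.coeff (g⁻¹ * 1) = b.coeff g⁻¹ * a.coeff (g⁻¹⁻¹ * 1)
  rw [inv_inv, mul_one, mul_one, mul_comm]

/-- **A block of rank one with at most four members has as many members as the order of its
defect groups.** -/
theorem card_eq_pow (hM : IsPModular p M) (hB : IsPBlock M B) (hl : blockRank p B = 1)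
    (hk : Nat.card B ≤ 4) : Nat.card B = p ^ blockDefect p B := by
  letI := irrFintype (G := G)
  haveI : Fintype B := Fintype.ofFinite B
  refine le_antisymm ?_ ?_
  · obtain ⟨φ, d, -, hd, hsq⟩ := rank_one_decomposition hM hB hl
    rw [← hsq, finsum_mem_eq_sum_of_inter_support_eq (t := univ.filter (· ∈ B)) _ (by ext; simp),
      Nat.card_eq_fintype_card, Fintype.card_subtype, card_eq_sum_ones]
    refine sum_le_sum fun χ hχ => Nat.one_le_pow _ _ (Nat.pos_of_ne_zero fun h0 => ?_)
    have h := hd χ (mem_filter.1 hχ).2 1 (by simp [IsPRegular, Nat.dvd_one, hM.1.ne_one])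
    rw [h0, Nat.cast_zero, zero_mul] at h
    exact irr_one_ne_zero χ h
  obtain ⟨i, n, j, x, y, hi, -, hn, hj, horth, hsum, hxy⟩ := exists_matrix_units hM hB hl
  have hI : IsIdempotentElem i := hi.2.1
  have h2 := pow_le_finrank_cornerSub hM hB hl hi hn (fun l => (hj l).1) horth hsum hxy
  have h1 := finrank_center_corner_le hM hB hI hsum hxy fun l => (hj l).2
  let τ : hI.Corner →ₗ[𝕜] 𝕜 :=
    { toFun := fun a => coeffOne G 𝕜 a.1
      map_add' := fun a b => map_add (coeffOne G 𝕜) a.1 b.1
      map_smul' := fun c a => map_smul (coeffOne G 𝕜) c a.1 }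
  have hnd : ∀ a, (∀ b, τ (a * b) = 0) → a = 0 := by
    intro a ha
    refine Subtype.ext (coeff_ext fun g => ?_)
    show (a.1 : KG).coeff g = (0 : KG).coeff g
    rw [MonoidAlgebra.coeff_zero, Finsupp.zero_apply]
    have h := ha ⟨i * MonoidAlgebra.single g⁻¹ 1 * i, mem_corner hI
      ⟨by rw [← mul_assoc, ← mul_assoc, hI.eq], by rw [mul_assoc, hI.eq]⟩⟩
    have h' : coeffOne G 𝕜 (a.1 * (i * MonoidAlgebra.single g⁻¹ 1 * i)) = 0 := h
    rw [← mul_assoc, ← mul_assoc, coeffOne_mul_comm, ← mul_assoc, ← mul_assoc,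
      (corner_mem hI a).1, (corner_mem hI a).2] at h'
    show (a.1 : KG).coeff g = 0
    have h'' : ((a.1 : KG) * MonoidAlgebra.single g⁻¹ 1).coeff 1 = 0 := h'
    rwa [MonoidAlgebra.coeff_mul_single_apply, mul_one, inv_inv, one_mul] at h''
  have hcomm := comm_of_center_le_four (cornerHom hI hi) (isNilpotent_of_cornerHom hI hi) τ
    (fun a b => coeffOne_mul_comm (a.1 : KG) b.1) hnd (h1.trans hk)
  have htop : Subalgebra.center 𝕜 hI.Corner = ⊤ :=
    eq_top_iff.2 fun c _ => Subalgebra.mem_center_iff.2 fun d => hcomm d c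
  rw [htop, ← Subalgebra.finrank_toSubmodule, Algebra.top_toSubmodule, finrank_top,
    (cornerEquiv (k := 𝕜) hI).finrank_eq] at h1
  exact h2.trans h1

/-- **S4648.** -/
theorem rank_one_small (hM : IsPModular p M) (hB : IsPBlock M B) {D : Subgroup G}
    (hD : IsDefectGroup p M B D) (hD1 : D ≠ ⊥) (hl : blockRank p B = 1) (hk : Nat.card B ≤ 4) :
    IsNilpotentBlock p M B ∧ Nat.card D = Nat.card B ∧ (p = 2 ∨ p = 3) := by
  have hcard : Nat.card D = Nat.card B := by
    rw [card_eq_pow hM hB hl hk, card_defectGroup hM hB hD]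
  have hp := (Fact.out : p.Prime)
  have hd0 : blockDefect p B ≠ 0 := fun h => hD1 (Subgroup.card_eq_one.1 (by
    rw [card_defectGroup hM hB hD, h, pow_zero]))
  have hle : p ^ blockDefect p B ≤ 4 := by rw [← card_eq_pow hM hB hl hk]; exact hk
  have hp23 : p = 2 ∨ p = 3 := by
    have h1 : p ≤ 4 := (Nat.le_self_pow hd0 p).trans hle
    rcases hp.two_le.lt_or_eq with h | h
    · right
      rcases Nat.lt_or_ge p 4 with h4 | h4
      · omega
      · exact absurd (show p = 4 by omega) fun e => absurd (e ▸ hp) (by norm_num)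
    · exact Or.inl h.symm
  refine ⟨?_, hcard, hp23⟩
  by_cases hcyc : IsCyclic D
  · exact (Cfsg.Agent.S4649.result p M hM B hB D hD hcyc).2 hl
  have hd2 : blockDefect p B = 2 ∧ p = 2 := by
    have h1 : blockDefect p B ≠ 1 := fun h => hcyc (isCyclic_of_prime_card (p := p) (by
      rw [card_defectGroup hM hB hD, h, pow_one]))
    have h2 : p ^ 2 ≤ 4 := (Nat.pow_le_pow_right hp.pos (by omega)).trans hle
    have hp2 : p = 2 := le_antisymm (not_lt.1 fun h => by nlinarith) hp.two_le
    refine ⟨?_, hp2⟩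
    by_contra h
    have h3 := (Nat.pow_le_pow_right hp.pos (show 3 ≤ blockDefect p B by omega)).trans hle
    rw [hp2] at h3
    norm_num at h3
  obtain ⟨hd, rfl⟩ := hd2
  have hD4 : Nat.card D = 4 := by rw [card_defectGroup hM hB hD, hd]; norm_num
  have hexp : ∀ x : D, x ^ 2 = 1 := by
    intro x
    have hdvd : orderOf x ∣ 2 ^ 2 := by
      have := _root_.orderOf_dvd_natCard x
      rwa [hD4] at this
    obtain ⟨j, hj, hjx⟩ := (Nat.dvd_prime_pow hp).1 hdvd
    refine orderOf_dvd_iff_pow_eq_one.1 (hjx ▸ ?_)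
    rcases Nat.lt_or_ge j 2 with h | h
    · exact (pow_dvd_pow 2 (show j ≤ 1 by omega)).trans (dvd_of_eq (pow_one 2))
    · exact absurd (isCyclic_of_orderOf_eq_card x (by
        rw [hD4, hjx, show j = 2 by omega]; norm_num)) hcyc
  have hV : IsKleinFour D := by
    refine ⟨hD4, Nat.dvd_antisymm (Monoid.exponent_dvd_of_forall_pow_eq_one hexp) ?_⟩
    haveI : Nontrivial D := Finite.one_lt_card_iff_nontrivial.1 (by omega)
    obtain ⟨x, hx⟩ := exists_ne (1 : D)
    have := Monoid.order_dvd_exponent x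
    rwa [orderOf_eq_prime (hexp x) hx] at this
  have hab := KleinDefect.commute_klein hV
  have hPC : D ≤ Subgroup.centralizer (D : Set G) := fun x hx =>
    Subgroup.mem_centralizer_iff.2 fun y hy => hab y hy x hx
  haveI := Fintype.ofFinite D
  haveI : Fintype B := Fintype.ofFinite B
  obtain ⟨c, hc, -⟩ := CfsgLib.BlockB.exists_induced_of_central hM hB hD le_rfl hPC
  obtain ⟨hP, hmax⟩ := CfsgLib.Inertial.maxPair_of_induced hM hB hD hab hc
  set n := (Subgroup.centralizer (D : Set G)).relIndex
    (stab D (idemIn M (Subgroup.centralizer (D : Set G)) c))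
  have S : KleinDefect.KleinData (M := M) B D c n := ⟨hM, hB, hD, hV, hc, rfl⟩
  obtain ⟨a, V, hpm⟩ := S.exists_kleinVals
  have hr := V.card_relation S
  rw [S.card_P, V.card_block S hpm, hl] at hr
  have hn : n = 1 := by
    rcases S.n_cases with h | h
    · exact h
    · rw [h] at hr; omega
  rw [isNilpotentBlock_iff hM, and_iff_right hB,
    isNil_iff_of_abelian hP (isBlk_idem hM hB) hmax hab (fun R f h => isSplit_of_isPair hM R f h)]
  exact Subgroup.relIndex_eq_one.1 hn

end CfsgLib.LocalSymm
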