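import Mathlib.Algebra.Algebra.Operations
import Mathlib.Algebra.Algebra.Subalgebra.Basic
import Mathlib.LinearAlgebra.Dual.Lemmas
import Mathlib.RingTheory.Nilpotent.Basic
import Mathlib.LinearAlgebra.FiniteDimensional.Lemmas
import Mathlib.Tactic.NoncommRing
import Mathlib.Tactic.Module

/-!
# Symmetric local algebras with small centre

A symmetric local algebra whose centre has dimension at most four is commutative (Külshammer).
-/

set_option autoImplicit false
set_option linter.unusedSectionVars false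
set_option linter.style.haveILetI false

namespace CfsgLib.LocalSymm

open Module Submodule

variable {k : Type*} [Field k] {R : Type*} [Ring R] [Algebra k R] (ρ : R →ₐ[k] k)

/-- The kernel of the residue map. -/
def rad : Submodule k R := LinearMap.ker ρ.toLinearMap

theorem mem_rad {a : R} : a ∈ rad ρ ↔ ρ a = 0 := Iff.rfl

theorem sub_mem_rad (a : R) : a - algebraMap k R (ρ a) ∈ rad ρ := by
  rw [mem_rad, map_sub, AlgHom.commutes, Algebra.algebraMap_self, RingHom.id_apply, sub_self]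

theorem mul_mem_rad_left (a : R) {b : R} (hb : b ∈ rad ρ) : a * b ∈ rad ρ := by
  rw [mem_rad] at hb ⊢; rw [map_mul, hb, mul_zero]

theorem mul_mem_rad_right {a : R} (ha : a ∈ rad ρ) (b : R) : a * b ∈ rad ρ := by
  rw [mem_rad] at ha ⊢; rw [map_mul, ha, zero_mul]

theorem rad_mul_top : rad ρ * ⊤ ≤ rad ρ :=
  mul_le.2 fun _ ha b _ => mul_mem_rad_right ρ ha b

theorem rad_mul_self : rad ρ * rad ρ ≤ rad ρ :=
  mul_le.2 fun a _ _ hb => mul_mem_rad_left ρ a hb

theorem rad_pow_succ_le (n : ℕ) : rad ρ ^ (n + 2) ≤ rad ρ ^ (n + 1) := by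
  induction n with
  | zero =>
    rw [zero_add, pow_one, pow_two]
    exact rad_mul_self ρ
  | succ n ih =>
    calc rad ρ ^ (n + 1 + 2) = rad ρ * rad ρ ^ (n + 2) := pow_succ' _ _
      _ ≤ rad ρ * rad ρ ^ (n + 1) := mul_le_mul' le_rfl ih
      _ = rad ρ ^ (n + 1 + 1) := (pow_succ' _ _).symm

theorem rad_pow_le {m n : ℕ} (hm : 1 ≤ m) (h : m ≤ n) : rad ρ ^ n ≤ rad ρ ^ m := by
  induction n, h using Nat.le_induction with
  | base => exact le_rfl
  | succ n hn ih =>
    obtain ⟨j, rfl⟩ : ∃ j, n = j + 1 := ⟨n - 1, by omega⟩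
    exact (rad_pow_succ_le ρ j).trans ih

theorem mul_mem_rad_pow {a : R} {m n : ℕ} (ha : a ∈ rad ρ ^ m) {b : R} (hb : b ∈ rad ρ ^ n) :
    a * b ∈ rad ρ ^ (m + n) := by
  rw [pow_add]; exact mul_mem_mul ha hb

theorem pow_mem_rad_pow {a : R} (ha : a ∈ rad ρ) (n : ℕ) : a ^ n ∈ rad ρ ^ n :=
  pow_mem_pow _ ha n

variable [FiniteDimensional k R]

/-- Nakayama for a nil two-sided ideal. -/
theorem eq_bot_of_le_mul (hρ : ∀ a, ρ a = 0 → IsNilpotent a) {W : Submodule k R}
    (hW : W ≤ rad ρ * W) : W = ⊥ := by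
  classical
  suffices h : ∀ s : Finset R, (s : Set R) ⊆ W → W ≤ ⊤ * span k (s : Set R) → W = ⊥ by
    obtain ⟨s, hs⟩ := (IsNoetherian.noetherian W : W.FG)
    refine h s (hs ▸ subset_span) fun x hx => ?_
    have h1 : (1 : R) * x ∈ (⊤ : Submodule k R) * span k (s : Set R) :=
      mul_mem_mul mem_top (hs.symm ▸ hx)
    rwa [one_mul] at h1
  intro s
  induction s using Finset.induction with
  | empty =>
    intro _ h
    simpa using h
  | @insert w s hws ih =>
    intro hsW h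
    have hw : w ∈ W := hsW (Finset.mem_insert_self w s)
    have h2 : W ≤ rad ρ * span k (insert w (s : Set R)) := by
      refine hW.trans ((mul_le_mul' le_rfl h).trans ?_)
      rw [Finset.coe_insert, ← mul_assoc]
      exact mul_le_mul' (rad_mul_top ρ) le_rfl
    rw [span_insert, Submodule.mul_sup] at h2
    have hinc : rad ρ * span k (s : Set R) ≤ (⊤ : Submodule k R) * span k (s : Set R) :=
      mul_le_mul' le_top le_rfl
    have htop : ∀ r : R, ∀ z ∈ (⊤ : Submodule k R) * span k (s : Set R),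
        r * z ∈ (⊤ : Submodule k R) * span k (s : Set R) := fun r z hz => by
      have h3 := mul_mem_mul (mem_top (x := r) (R := k)) hz
      rw [← mul_assoc] at h3
      exact mul_le_mul' (mul_le.2 fun _ _ _ _ => mem_top) le_rfl h3
    have hw' : w ∈ (⊤ : Submodule k R) * span k (s : Set R) := by
      obtain ⟨p', hp', q', hq', he⟩ := mem_sup.1 (h2 hw)
      obtain ⟨a', ha', rfl⟩ := mem_mul_span_singleton.1 hp'
      obtain ⟨u, hu⟩ := (hρ a' ha').isUnit_one_sub
      have hy : (u : R) * w = q' := by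
        rw [hu, sub_mul, one_mul, sub_eq_iff_eq_add']; exact he.symm
      have h3 : w = (↑u⁻¹ : R) * q' := by rw [← hy, ← mul_assoc, Units.inv_mul, one_mul]
      rw [h3]
      exact htop _ _ (hinc hq')
    refine ih (fun x hx => hsW (Finset.mem_insert_of_mem hx)) fun x hx => ?_
    obtain ⟨p, hp, q, hq, rfl⟩ := mem_sup.1 (h2 hx)
    obtain ⟨a, ha, rfl⟩ := mem_mul_span_singleton.1 hp
    exact add_mem (htop a w hw') (hinc hq)

/-- The radical is nilpotent. -/
theorem exists_rad_pow_eq_bot (hρ : ∀ a, ρ a = 0 → IsNilpotent a) : ∃ n, rad ρ ^ n = ⊥ := by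
  by_contra hno
  have h1 : ∀ n, finrank k (rad ρ ^ (n + 1) : Submodule k R) + n ≤ finrank k R := by
    intro n
    induction n with
    | zero => simpa using Submodule.finrank_le _
    | succ n ih =>
      have hlt : rad ρ ^ (n + 1 + 1) < rad ρ ^ (n + 1) := by
        refine lt_of_le_of_ne (rad_pow_succ_le ρ n) fun e => hno ⟨n + 1, eq_bot_of_le_mul ρ hρ ?_⟩
        rw [← pow_succ', e]
      have := Submodule.finrank_lt_finrank_of_lt hlt
      omega
  have := h1 (finrank k R + 1)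
  omega

/-- A power of the radical inside the next one vanishes. -/
theorem rad_pow_eq_bot_of_le (hρ : ∀ a, ρ a = 0 → IsNilpotent a) {m : ℕ}
    (h : rad ρ ^ m ≤ rad ρ ^ (m + 1)) : rad ρ ^ m = ⊥ :=
  eq_bot_of_le_mul ρ hρ (by rwa [← pow_succ'])

/-- The span of the commutators. -/
def commSpan (k : Type*) [Field k] (R : Type*) [Ring R] [Algebra k R] : Submodule k R :=
  span k (Set.range fun x : R × R => x.1 * x.2 - x.2 * x.1)

theorem comm_mem_commSpan (a b : R) : a * b - b * a ∈ commSpan k R :=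
  subset_span ⟨(a, b), rfl⟩

theorem finrank_le_commSpan_add (τ : R →ₗ[k] k) (hsymm : ∀ a b, τ (a * b) = τ (b * a))
    (hnd : ∀ a, (∀ b, τ (a * b) = 0) → a = 0) :
    finrank k R ≤ finrank k (commSpan k R) + finrank k (Subalgebra.center k R) := by
  let φ : R →ₗ[k] Dual k R := LinearMap.mk₂ k (fun a b => τ (a * b))
    (fun a a' b => by rw [add_mul, map_add])
    (fun c a b => by rw [smul_mul_assoc, map_smul])
    (fun a b b' => by rw [mul_add, map_add])
    (fun c a b => by rw [mul_smul_comm, map_smul])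
  have hφ : Function.Injective φ := LinearMap.ker_eq_bot.1 <| LinearMap.ker_eq_bot'.2
    fun a ha => hnd a fun b => DFunLike.congr_fun ha b
  let e : R ≃ₗ[k] Dual k R := LinearEquiv.ofBijective φ
    ⟨hφ, (LinearMap.injective_iff_surjective_of_finrank_eq_finrank
      (Subspace.dual_finrank_eq).symm).1 hφ⟩
  have hle : (commSpan k R).dualAnnihilator.comap e.toLinearMap ≤
      Subalgebra.toSubmodule (Subalgebra.center k R) := by
    intro z hz
    rw [Subalgebra.mem_toSubmodule, Subalgebra.mem_center_iff]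
    intro a
    refine (sub_eq_zero.1 (hnd (z * a - a * z) fun b => ?_)).symm
    have h := (mem_dualAnnihilator _).1 hz _ (comm_mem_commSpan a b)
    have h' : τ (z * (a * b - b * a)) = 0 := h
    rw [mul_sub, map_sub] at h'
    rw [sub_mul, map_sub, mul_assoc z a b, mul_assoc a z b, hsymm a (z * b), mul_assoc z b a]
    exact h'
  have h1 := Submodule.finrank_mono hle
  rw [show (commSpan k R).dualAnnihilator.comap e.toLinearMap =
      (commSpan k R).dualAnnihilator.map e.symm.toLinearMap from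
    (Submodule.map_equiv_eq_comap_symm e.symm _).symm.trans rfl,
    LinearEquiv.finrank_map_eq] at h1
  have h2 := Subspace.finrank_add_finrank_dualAnnihilator_eq (commSpan k R)
  rw [← h2]
  exact Nat.add_le_add_left h1 _

theorem comm_eq (a b : R) :
    a * b - b * a = (a - algebraMap k R (ρ a)) * (b - algebraMap k R (ρ b)) -
      (b - algebraMap k R (ρ b)) * (a - algebraMap k R (ρ a)) := by
  simp only [Algebra.algebraMap_eq_smul_one, mul_sub, sub_mul, mul_smul_comm, smul_mul_assoc,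
    one_mul, mul_one, smul_sub, smul_smul]
  module

theorem commSpan_le : commSpan k R ≤ rad ρ ^ 2 := by
  refine span_le.2 ?_
  rintro _ ⟨⟨a, b⟩, rfl⟩
  simp only [SetLike.mem_coe]
  rw [comm_eq ρ, pow_two]
  exact sub_mem (mul_mem_mul (sub_mem_rad ρ a) (sub_mem_rad ρ b))
    (mul_mem_mul (sub_mem_rad ρ b) (sub_mem_rad ρ a))

/-- The commutators modulo the cube, in terms of two generators of the radical. -/
theorem comm_mem_of_gen {x y : R} (hx : x ∈ rad ρ) (hy : y ∈ rad ρ)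
    (hgen : rad ρ ≤ span k {x, y} ⊔ rad ρ ^ 2) :
    commSpan k R ≤ span k {x * y - y * x} ⊔ rad ρ ^ 3 := by
  refine span_le.2 ?_
  rintro _ ⟨⟨a, b⟩, rfl⟩
  simp only [SetLike.mem_coe]
  rw [comm_eq ρ a b]
  obtain ⟨p, hp, r, hr, hpr⟩ := mem_sup.1 (hgen (sub_mem_rad ρ a))
  obtain ⟨q, hq, t, ht, hqt⟩ := mem_sup.1 (hgen (sub_mem_rad ρ b))
  obtain ⟨c₁, d₁, rfl⟩ := mem_span_pair.1 hp
  obtain ⟨c₂, d₂, rfl⟩ := mem_span_pair.1 hq
  rw [← hpr, ← hqt]
  have hP : ∀ c d : k, c • x + d • y ∈ rad ρ ^ 1 := fun c d => by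
    rw [pow_one]; exact add_mem (smul_mem _ _ hx) (smul_mem _ _ hy)
  have h3 : rad ρ ^ 4 ≤ rad ρ ^ 3 := rad_pow_le ρ (by norm_num) (by norm_num)
  refine mem_sup.2 ⟨(c₁ * d₂ - d₁ * c₂) • (x * y - y * x), smul_mem _ _ (mem_span_singleton_self _),
    ((c₁ • x + d₁ • y) * t + r * (c₂ • x + d₂ • y) + r * t) -
      ((c₂ • x + d₂ • y) * r + t * (c₁ • x + d₁ • y) + t * r), ?_, ?_⟩
  · refine sub_mem (add_mem (add_mem ?_ ?_) (h3 ?_)) (add_mem (add_mem ?_ ?_) (h3 ?_))
    · exact mul_mem_rad_pow ρ (hP c₁ d₁) ht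
    · exact mul_mem_rad_pow ρ hr (hP c₂ d₂)
    · exact mul_mem_rad_pow ρ hr ht
    · exact mul_mem_rad_pow ρ (hP c₂ d₂) hr
    · exact mul_mem_rad_pow ρ ht (hP c₁ d₁)
    · exact mul_mem_rad_pow ρ ht hr
  · simp only [mul_add, add_mul, smul_mul_assoc, mul_smul_comm, smul_smul, smul_sub]
    module

/-- An algebra with cyclic radical is commutative. -/
theorem comm_of_gen_one (hρ : ∀ a, ρ a = 0 → IsNilpotent a) {x : R} (hx : x ∈ rad ρ)
    (hgen : rad ρ ≤ span k {x} ⊔ rad ρ ^ 2) (a b : R) : a * b = b * a := by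
  obtain ⟨N, hN⟩ := exists_rad_pow_eq_bot ρ hρ
  have hpow : ∀ m, rad ρ ^ (m + 1) ≤ span k {x ^ (m + 1)} ⊔ rad ρ ^ (m + 2) := by
    intro m
    induction m with
    | zero => simpa using hgen
    | succ m ih =>
      rw [pow_succ (rad ρ) (m + 1)]
      refine (mul_le_mul' le_rfl hgen).trans ?_
      rw [Submodule.mul_sup]
      refine sup_le ((mul_le_mul' ih le_rfl).trans ?_) ?_
      · rw [Submodule.sup_mul, span_mul_span, Set.singleton_mul_singleton, ← pow_succ]
        refine sup_le le_sup_left (le_trans ?_ le_sup_right)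
        rw [pow_succ (rad ρ) (m + 2)]
        exact mul_le_mul' le_rfl ((span_singleton_le_iff_mem _ _).2 hx)
      · rw [← pow_add]
        exact le_sup_right
  set P := Subalgebra.toSubmodule (Algebra.adjoin k ({x} : Set R))
  have hdesc : ∀ j, rad ρ ^ (N + 1 - j) ≤ P ⊔ ⊥ := by
    intro j
    induction j with
    | zero => rw [Nat.sub_zero, pow_succ, hN]; simp
    | succ j ih =>
      by_cases hj : N + 1 - (j + 1) = 0
      · rw [hj, pow_zero, one_eq_span, span_singleton_le_iff_mem]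
        exact mem_sup_left (Subalgebra.one_mem _)
      obtain ⟨m, hm⟩ : ∃ m, N + 1 - (j + 1) = m + 1 := ⟨N + 1 - (j + 1) - 1, by omega⟩
      rw [hm]
      refine (hpow m).trans (sup_le ((span_singleton_le_iff_mem _ _).2 ?_) ?_)
      · exact mem_sup_left (pow_mem (Algebra.self_mem_adjoin_singleton k x) _)
      · rwa [show m + 2 = N + 1 - j by omega]
  have hJ : ∀ a, a - algebraMap k R (ρ a) ∈ P := fun a => by
    have h := hdesc N
    rw [show N + 1 - N = 1 by omega, pow_one, sup_bot_eq] at h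
    exact h (sub_mem_rad ρ a)
  have hall : ∀ a : R, a ∈ Algebra.adjoin k ({x} : Set R) := fun a => by
    have h := add_mem (hJ a) (Subalgebra.algebraMap_mem (Algebra.adjoin k ({x} : Set R)) (ρ a))
    rwa [sub_add_cancel] at h
  obtain ⟨f, rfl⟩ := (Algebra.adjoin_singleton_eq_range_aeval k x ▸ hall a :)
  obtain ⟨g, rfl⟩ := (Algebra.adjoin_singleton_eq_range_aeval k x ▸ hall b :)
  exact ((Commute.all f g).map (Polynomial.aeval x)).eq

/-- **A symmetric local algebra with centre of dimension at most four is commutative.** -/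
theorem comm_of_center_le_four (hρ : ∀ a, ρ a = 0 → IsNilpotent a) (τ : R →ₗ[k] k)
    (hsymm : ∀ a b, τ (a * b) = τ (b * a)) (hnd : ∀ a, (∀ b, τ (a * b) = 0) → a = 0)
    (hZ : finrank k (Subalgebra.center k R) ≤ 4) (a b : R) : a * b = b * a := by
  classical
  haveI : Nontrivial R := RingHom.domain_nontrivial ρ.toRingHom
  have hex := exists_rad_pow_eq_bot ρ hρ
  set N := Nat.find hex
  have hN : rad ρ ^ N = ⊥ := Nat.find_spec hex
  have hmin : ∀ m, m < N → rad ρ ^ m ≠ ⊥ := fun m hm => Nat.find_min hex hm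
  have hbot : ∀ m, N ≤ m → rad ρ ^ m = ⊥ := fun m hm => by
    rw [show m = N + (m - N) by omega, pow_add, hN, bot_mul]
  have hK2 := commSpan_le (k := k) ρ
  by_cases hN2 : N ≤ 2
  · have : a * b - b * a ∈ (⊥ : Submodule k R) := hbot 2 hN2 ▸ hK2 (comm_mem_commSpan a b)
    exact sub_eq_zero.1 ((mem_bot k).1 this)
  obtain ⟨L, hL⟩ : ∃ L, N = L + 1 := ⟨N - 1, by omega⟩
  have htop : rad ρ ^ L ≠ ⊥ := hmin L (by omega)
  -- `τ` is injective on the last power
  have hsoc : ∀ s ∈ rad ρ ^ L, τ s = 0 → s = 0 := fun s hs h0 => hnd s fun c => by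
    have h1 : s * (c - algebraMap k R (ρ c)) = 0 := by
      rw [← mem_bot k, ← hbot (L + 1) (by omega)]
      exact mul_mem_rad_pow ρ hs (by rw [pow_one]; exact sub_mem_rad ρ c)
    rw [mul_sub, sub_eq_zero, ← Algebra.commutes, ← Algebra.smul_def] at h1
    rw [h1, map_smul, h0, smul_zero]
  have hτK : ∀ s ∈ commSpan k R, τ s = 0 := fun s hs => by
    refine (span_le.2 ?_ : commSpan k R ≤ LinearMap.ker τ) hs
    rintro _ ⟨⟨c, d⟩, rfl⟩
    simp [hsymm c d]
  have hdis : Disjoint (commSpan k R) (rad ρ ^ L) := disjoint_def.2 fun s h1 h2 =>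
    hsoc s h2 (hτK s h1)
  by_cases hL2 : L ≤ 2
  · have hL' : L = 2 := by omega
    subst hL'
    exact sub_eq_zero.1 (disjoint_def.1 hdis _ (comm_mem_commSpan a b)
      (hK2 (comm_mem_commSpan a b)))
  -- dimensions
  have hR : finrank k R = finrank k (rad ρ) + 1 := by
    have h := LinearMap.finrank_range_add_finrank_ker ρ.toLinearMap
    rw [LinearMap.range_eq_top.2 fun c => ⟨algebraMap k R c, ρ.commutes c⟩, finrank_top,
      finrank_self] at h
    rw [rad, ← h, add_comm]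
  have hdimK : finrank k (commSpan k R) + finrank k (rad ρ ^ L : Submodule k R) =
      finrank k (commSpan k R ⊔ rad ρ ^ L : Submodule k R) := by
    rw [← finrank_sup_add_finrank_inf_eq, hdis.eq_bot, finrank_bot, add_zero]
  have hsupJ2 : commSpan k R ⊔ rad ρ ^ L ≤ rad ρ ^ 2 :=
    sup_le hK2 (rad_pow_le ρ (by norm_num) (by omega))
  have hLpos : 1 ≤ finrank k (rad ρ ^ L : Submodule k R) := Submodule.one_le_finrank_iff.2 htop
  have hle := finrank_le_commSpan_add (k := k) τ hsymm hnd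
  have hmono := Submodule.finrank_mono hsupJ2
  have hJ1 : rad ρ = rad ρ ^ 1 := (pow_one _).symm
  have hJ2le : rad ρ ^ 2 ≤ rad ρ := by
    conv_rhs => rw [hJ1]
    exact rad_pow_le ρ le_rfl (by norm_num)
  -- the first step
  have hne2 : ¬ rad ρ ≤ rad ρ ^ 2 := fun h =>
    hmin 1 (by omega) (rad_pow_eq_bot_of_le ρ hρ (by rwa [pow_one]))
  obtain ⟨x, hx, hx2⟩ := SetLike.not_le_iff_exists.1 hne2
  by_cases hone : rad ρ ≤ span k {x} ⊔ rad ρ ^ 2
  · exact comm_of_gen_one ρ hρ hx hone a b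
  obtain ⟨y, hy, hy2⟩ := SetLike.not_le_iff_exists.1 hone
  set S1 := span k {x} ⊔ rad ρ ^ 2
  set S2 := span k {x, y} ⊔ rad ρ ^ 2
  have hS2le : S2 ≤ rad ρ :=
    sup_le (span_le.2 (Set.insert_subset hx (Set.singleton_subset_iff.2 hy))) hJ2le
  have h01 : rad ρ ^ 2 < S1 := lt_of_le_of_ne le_sup_right fun e =>
    hx2 (e ▸ mem_sup_left (mem_span_singleton_self x))
  have h12 : S1 < S2 := lt_of_le_of_ne (sup_le_sup_right (span_mono (by simp)) _) fun e =>
    hy2 (e ▸ mem_sup_left (subset_span (by simp)))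
  have d01 := Submodule.finrank_lt_finrank_of_lt h01
  have d12 := Submodule.finrank_lt_finrank_of_lt h12
  have d2 := Submodule.finrank_mono hS2le
  have hgen : rad ρ ≤ S2 := (eq_of_le_of_finrank_le hS2le (by omega)).ge
  have hJ2eq : rad ρ ^ 2 ≤ commSpan k R ⊔ rad ρ ^ L :=
    (eq_of_le_of_finrank_le hsupJ2 (by omega)).ge
  set w := x * y - y * x
  have hJ2w : rad ρ ^ 2 ≤ span k {w} ⊔ rad ρ ^ 3 :=
    hJ2eq.trans (sup_le (comm_mem_of_gen ρ hx hy hgen)
      ((rad_pow_le ρ (by norm_num) (by omega)).trans le_sup_right))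
  have hne3 : ¬ rad ρ ^ 2 ≤ rad ρ ^ 3 := fun h => hmin 2 (by omega) (rad_pow_eq_bot_of_le ρ hρ h)
  have hw3 : w ∉ rad ρ ^ 3 := fun h =>
    hne3 (hJ2w.trans (sup_le ((span_singleton_le_iff_mem _ _).2 h) le_rfl))
  obtain ⟨u, hu, v, hv, huv⟩ : ∃ u ∈ rad ρ, ∃ v ∈ rad ρ, u * v ∉ rad ρ ^ 3 := by
    by_contra h
    simp only [not_exists, not_and, not_not] at h
    exact hne3 (by rw [pow_two]; exact mul_le.2 h)
  have hu1 : u ∈ rad ρ ^ 1 := by rwa [pow_one]
  have hv1 : v ∈ rad ρ ^ 1 := by rwa [pow_one]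
  have huv2 : rad ρ ^ 2 ≤ span k {u * v} ⊔ rad ρ ^ 3 := by
    obtain ⟨p, hp, r, hr, hpr⟩ := mem_sup.1 (hJ2w (mul_mem_rad_pow ρ hu1 hv1))
    obtain ⟨c, rfl⟩ := mem_span_singleton.1 hp
    have hc : c ≠ 0 := fun h => huv (by rw [← hpr, h, zero_smul, zero_add]; exact hr)
    refine hJ2w.trans (sup_le ((span_singleton_le_iff_mem _ _).2 ?_) le_sup_right)
    refine mem_sup.2 ⟨c⁻¹ • (u * v), smul_mem _ _ (mem_span_singleton_self _), -(c⁻¹ • r),
      neg_mem (smul_mem _ _ hr), ?_⟩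
    rw [← hpr, smul_add, smul_smul, inv_mul_cancel₀ hc, one_smul, add_neg_cancel_right]
  have chain : ∀ n, rad ρ ^ (n + 2) ≤ span k {u * v ^ (n + 1)} ⊔ rad ρ ^ (n + 3) := by
    intro n
    induction n with
    | zero => simpa using huv2
    | succ n ih =>
      rw [pow_succ' (rad ρ) (n + 2)]
      refine (mul_le_mul' le_rfl ih).trans ?_
      rw [Submodule.mul_sup, ← pow_succ' (rad ρ) (n + 3)]
      refine sup_le (fun z hz => ?_) le_sup_right
      obtain ⟨c, hc, rfl⟩ := mem_mul_span_singleton.1 hz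
      obtain ⟨p, hp, r, hr, hpr⟩ := mem_sup.1
        (huv2 (show c * u ∈ rad ρ ^ 2 by rw [pow_two]; exact mul_mem_mul hc hu))
      obtain ⟨γ, rfl⟩ := mem_span_singleton.1 hp
      refine mem_sup.2 ⟨γ • (u * v ^ (n + 2)), smul_mem _ _ (mem_span_singleton_self _),
        r * v ^ (n + 1), ?_, ?_⟩
      · have h := mul_mem_rad_pow ρ hr (pow_mem_rad_pow ρ hv (n + 1))
        rwa [show 3 + (n + 1) = n + 1 + 3 by omega] at h
      · rw [← mul_assoc, ← hpr, add_mul, smul_mul_assoc, mul_assoc u v, ← pow_succ']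
  obtain ⟨l, rfl⟩ : ∃ l, L = l + 3 := ⟨L - 3, by omega⟩
  set t := u * v ^ (l + 1)
  set tt := u * v ^ (l + 2)
  have ht : t ∈ rad ρ ^ (l + 2) := by
    have h := mul_mem_rad_pow ρ hu1 (pow_mem_rad_pow ρ hv (l + 1))
    rwa [show 1 + (l + 1) = l + 2 by omega] at h
  have htt : tt ∈ rad ρ ^ (l + 3) := by
    have h := mul_mem_rad_pow ρ hu1 (pow_mem_rad_pow ρ hv (l + 2))
    rwa [show 1 + (l + 2) = l + 3 by omega] at h
  have htt0 : tt ≠ 0 := fun h => htop (by
    have := chain (l + 1)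
    rw [show u * v ^ (l + 1 + 1) = tt from rfl, h, span_zero_singleton, bot_sup_eq,
      hbot (l + 1 + 3) (by omega), le_bot_iff] at this
    exact this)
  -- an element annihilating the last but one power
  obtain ⟨z, α, β, hz, hαβ, hzt⟩ : ∃ (z : R) (α β : k), z = α • x + β • y ∧ (α ≠ 0 ∨ β ≠ 0) ∧
      τ (z * t) = 0 := by
    by_cases h : τ (x * t) = 0
    · exact ⟨x, 1, 0, by simp, Or.inl one_ne_zero, h⟩
    · refine ⟨_, -τ (y * t), τ (x * t), rfl, Or.inr h, ?_⟩
      simp only [add_mul, smul_mul_assoc, map_add, map_smul, smul_eq_mul]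
      ring
  have hzJ : z ∈ rad ρ := hz ▸ add_mem (smul_mem _ _ hx) (smul_mem _ _ hy)
  have hz1 : z ∈ rad ρ ^ 1 := by rwa [pow_one]
  have hzq : ∀ q ∈ rad ρ ^ (l + 2), τ (z * q) = 0 := fun q hq => by
    obtain ⟨p, hp, s, hs, rfl⟩ := mem_sup.1 (chain l hq)
    obtain ⟨γ, rfl⟩ := mem_span_singleton.1 hp
    have h0 : z * s = 0 := by
      rw [← mem_bot k, ← hbot (1 + (l + 3)) (by omega)]
      exact mul_mem_rad_pow ρ hz1 hs
    rw [mul_add, h0, add_zero, mul_smul_comm, map_smul, hzt, smul_zero]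
  have key : ∀ c ∈ rad ρ, z * c ∈ rad ρ ^ 3 ∧ c * z ∈ rad ρ ^ 3 := by
    intro c hc
    have hc1 : c ∈ rad ρ ^ 1 := by rwa [pow_one]
    have hcv : c * v ^ (l + 1) ∈ rad ρ ^ (l + 2) := by
      have h := mul_mem_rad_pow ρ hc1 (pow_mem_rad_pow ρ hv (l + 1))
      rwa [show 1 + (l + 1) = l + 2 by omega] at h
    have hvc : v ^ (l + 1) * c ∈ rad ρ ^ (l + 2) := mul_mem_rad_pow ρ (pow_mem_rad_pow ρ hv _) hc1
    have haux : ∀ e ∈ rad ρ ^ 2, τ (e * v ^ (l + 1)) = 0 → e ∈ rad ρ ^ 3 := by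
      intro e he h0
      obtain ⟨p, hp, r, hr, rfl⟩ := mem_sup.1 (huv2 he)
      obtain ⟨γ, rfl⟩ := mem_span_singleton.1 hp
      have hr0 : r * v ^ (l + 1) = 0 := by
        rw [← mem_bot k, ← hbot (3 + (l + 1)) (by omega)]
        exact mul_mem_rad_pow ρ hr (pow_mem_rad_pow ρ hv _)
      rw [add_mul, hr0, add_zero, smul_mul_assoc, mul_assoc, ← pow_succ', map_smul,
        smul_eq_zero] at h0
      rcases h0 with h0 | h0
      · rwa [h0, zero_smul, zero_add]
      · exact absurd (hsoc _ htt h0) htt0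
    refine ⟨haux _ (mul_mem_rad_pow ρ hz1 hc1) ?_, haux _ (mul_mem_rad_pow ρ hc1 hz1) ?_⟩
    · rw [mul_assoc]; exact hzq _ hcv
    · rw [mul_assoc, hsymm, mul_assoc]; exact hzq _ hvc
  exfalso
  rcases hαβ with hα | hβ
  · refine hw3 ?_
    have h := sub_mem (key y hy).1 (key y hy).2
    rw [hz] at h
    have : (α • x + β • y) * y - y * (α • x + β • y) = α • w := by
      simp only [w, add_mul, mul_add, smul_mul_assoc, mul_smul_comm, smul_sub]; abel
    rw [this] at h
    simpa [smul_smul, inv_mul_cancel₀ hα] using smul_mem _ α⁻¹ h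
  · refine hw3 ?_
    have h := sub_mem (key x hx).2 (key x hx).1
    rw [hz] at h
    have : x * (α • x + β • y) - (α • x + β • y) * x = β • w := by
      simp only [w, add_mul, mul_add, smul_mul_assoc, mul_smul_comm, smul_sub]; abel
    rw [this] at h
    simpa [smul_smul, inv_mul_cancel₀ hβ] using smul_mem _ β⁻¹ h

end CfsgLib.LocalSymm
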